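import Mathlib
import Groth.Prelude.Def_EGA4b
import Groth.Agent.FlatLoc6.SerreNormal

/-!
Flatness over an Artinian local ring from flatness in codimension one, for an algebra which is `(S_1)` and
whose reduction is `(S_2)`.
-/

set_option autoImplicit false
set_option linter.style.haveILetI false
set_option linter.unusedSectionVars false

open IsLocalRing TensorProduct

universe u

namespace Groth.Agent.SkFlatLib

variable {A : Type u} [CommRing A]

lemma mem_smul_top_of_smul_mem {M : Type u} [AddCommGroup M] [Module A M] [Module.Flat A M] (J K : Ideal A)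
    (a : A) (h₁ : ∀ c ∈ K, a * c ∈ J) (h₂ : ∀ c, a * c ∈ J → c ∈ K) {y : M}
    (hy : a • y ∈ J • (⊤ : Submodule A M)) : y ∈ K • (⊤ : Submodule A M) := by
  let g : (A ⧸ K) →ₗ[A] (A ⧸ J) := Submodule.mapQ K J (LinearMap.mulLeft A a) h₁
  have hg : Function.Injective g := by
    rw [← LinearMap.ker_eq_bot, eq_bot_iff]
    intro c hc
    obtain ⟨c, rfl⟩ := Submodule.mkQ_surjective _ c
    rw [LinearMap.mem_ker] at hc
    rw [Submodule.mem_bot]
    exact (Submodule.Quotient.mk_eq_zero K).mpr (h₂ c ((Submodule.Quotient.mk_eq_zero J).mp hc))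
  rw [← LinearMap.ker_tensorProductMk (R := A) (Q := M) (I := K), LinearMap.mem_ker]
  refine Module.Flat.rTensor_preserves_injective_linearMap g hg ?_
  rw [map_zero]
  rw [← LinearMap.ker_tensorProductMk (R := A) (Q := M) (I := J), LinearMap.mem_ker] at hy
  show g.rTensor M ((1 : A ⧸ K) ⊗ₜ[A] y) = 0
  rw [LinearMap.rTensor_tmul, show g 1 = a • (1 : A ⧸ J) from rfl, TensorProduct.smul_tmul]
  exact hy

variable [IsArtinianRing A] [IsLocalRing A] {B : Type u} [CommRing B] [Algebra A B]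

local notation "𝔪" => maximalIdeal A
local notation "↑ᵢ" J => Ideal.map (algebraMap A B) J
local notation "𝔫" => Ideal.map (algebraMap A B) (maximalIdeal A)

/-- An element which divides out to the maximal ideal modulo `J`. -/
lemma exists_socle {J : Ideal A} (hJ : J ≠ ⊤) (hJm : J ≠ 𝔪) :
    ∃ a ∈ 𝔪, a ∉ J ∧ (∀ c ∈ 𝔪, a * c ∈ J) ∧ ∀ c, a * c ∈ J → c ∈ 𝔪 := by
  classical
  have hex : ∃ n, 𝔪 ^ n ≤ J := by
    obtain ⟨n, hn⟩ := IsArtinianRing.isNilpotent_jacobson_bot (R := A)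
    rw [IsLocalRing.jacobson_eq_maximalIdeal ⊥ bot_ne_top] at hn
    exact ⟨n, by rw [hn]; exact bot_le⟩
  obtain ⟨m, hm⟩ : ∃ m, Nat.find hex = m + 1 + 1 := by
    refine ⟨Nat.find hex - 2, ?_⟩
    have h := Nat.find_spec hex
    rcases Nat.lt_or_ge (Nat.find hex) 2 with h2 | h2
    · exfalso
      interval_cases hn : Nat.find hex
      · simp only [pow_zero, Ideal.one_eq_top, top_le_iff] at h; exact hJ h
      · rw [pow_one] at h; exact hJm (le_antisymm (le_maximalIdeal hJ) h)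
    · omega
  have hnot : ¬ 𝔪 ^ (m + 1) ≤ J := Nat.find_min hex (by omega)
  obtain ⟨a, ha, haJ⟩ := SetLike.not_le_iff_exists.mp hnot
  have hle : 𝔪 ^ (m + 1 + 1) ≤ J := hm ▸ Nat.find_spec hex
  refine ⟨a, Ideal.pow_le_self (Nat.succ_ne_zero m) ha, haJ, fun c hc => hle ?_, fun c hc => ?_⟩
  · rw [pow_succ]; exact Ideal.mul_mem_mul ha hc
  · by_contra hcm
    exact haJ ((Ideal.mul_unit_mem_iff_mem J (notMem_maximalIdeal.mp hcm)).mp hc)

lemma map_le_nilradical : 𝔫 ≤ nilradical B := by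
  refine Ideal.map_le_iff_le_comap.mpr fun a ha => ?_
  have hn : IsNilpotent 𝔪 := by
    have := IsArtinianRing.isNilpotent_jacobson_bot (R := A)
    rwa [IsLocalRing.jacobson_eq_maximalIdeal ⊥ bot_ne_top] at this
  obtain ⟨n, hn⟩ := hn
  exact (show IsNilpotent a from ⟨n, by simpa [hn] using Ideal.pow_mem_pow ha n⟩).map (algebraMap A B)

section Point

variable (q : Ideal B) [q.IsPrime]

lemma comap_eq : q.comap (algebraMap A B) = 𝔪 := eq_maximalIdeal (Ideal.IsPrime.comap _).isMaximal'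

lemma mem_smul_iff (J : Ideal A) (x : B) :
    algebraMap B (Localization.AtPrime q) x ∈ J • (⊤ : Submodule A (Localization.AtPrime q)) ↔
      ∃ w : B, w ∉ q ∧ w * x ∈ (↑ᵢ J) := by
  rw [Ideal.smul_top_eq_map, Submodule.restrictScalars_mem,
    IsScalarTower.algebraMap_eq A B (Localization.AtPrime q), ← Ideal.map_map,
    IsLocalization.algebraMap_mem_map_algebraMap_iff q.primeCompl]
  exact ⟨fun ⟨w, hw, h⟩ => ⟨w, hw, h⟩, fun ⟨w, hw, h⟩ => ⟨w, hw, h⟩⟩

/-- Reducedness of the fibre ring at `q`. -/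
lemma loc_nilradical (hred : IsReduced (EGA4.FibLocRing A B q)) {x : B} (hx : x ∈ nilradical B) :
    ∃ w : B, w ∉ q ∧ w * x ∈ 𝔫 := by
  refine (mem_smul_iff q 𝔪 x).mp ?_
  rw [Ideal.smul_top_eq_map, Submodule.restrictScalars_mem, ← Ideal.Quotient.eq_zero_iff_mem, ← comap_eq q]
  exact (((mem_nilradical.mp hx).map (algebraMap B (Localization.AtPrime q))).map (Ideal.Quotient.mk _)).eq_zero

lemma loc_colon [Module.Flat A (Localization.AtPrime q)] {J : Ideal A} {a : A} (h₁ : ∀ c ∈ 𝔪, a * c ∈ J)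
    (h₂ : ∀ c, a * c ∈ J → c ∈ 𝔪) {x : B} (hx : algebraMap A B a * x ∈ (↑ᵢ J)) :
    ∃ w : B, w ∉ q ∧ w * x ∈ 𝔫 := by
  refine (mem_smul_iff q 𝔪 x).mp (mem_smul_top_of_smul_mem J 𝔪 a h₁ h₂ ?_)
  rw [Algebra.smul_def, IsScalarTower.algebraMap_apply A B (Localization.AtPrime q), ← map_mul]
  exact (mem_smul_iff q J _).mpr ⟨1, q.ne_top_iff_one.mp Ideal.IsPrime.ne_top', by rwa [one_mul]⟩

lemma loc_regular [Module.Flat A (Localization.AtPrime q)] (hred : IsReduced (EGA4.FibLocRing A B q))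
    {s : B} (hs : ∀ P ∈ minimalPrimes B, s ∉ P) (J : Ideal A) :
    ∀ x : B, s * x ∈ (↑ᵢ J) → ∃ w : B, w ∉ q ∧ w * x ∈ (↑ᵢ J) := by
  have hbase : ∀ x : B, s * x ∈ 𝔫 → ∃ w : B, w ∉ q ∧ w * x ∈ 𝔫 := fun x hx => by
    refine loc_nilradical q hred ?_
    rw [nilradical_eq_sInf, Ideal.mem_sInf]
    intro P (hP : P.IsPrime)
    obtain ⟨P₀, hP₀, hle⟩ := Ideal.exists_minimalPrimes_le (bot_le : ⊥ ≤ P)
    haveI := hP₀.1.1
    have h1 : s * x ∈ P₀ := nilradical_le_prime P₀ (map_le_nilradical hx)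
    exact hle ((Ideal.IsPrime.mem_or_mem ‹P₀.IsPrime› h1).resolve_left (hs P₀ hP₀))
  induction J using WellFoundedGT.induction with
  | ind J ih =>
    intro x hx
    by_cases hJ : J = ⊤
    · exact ⟨1, q.ne_top_iff_one.mp Ideal.IsPrime.ne_top', by simp [hJ, Ideal.map_top]⟩
    by_cases hJm : J = 𝔪
    · subst hJm; exact hbase x hx
    obtain ⟨a, -, haJ, h₁, h₂⟩ := exists_socle hJ hJm
    have hlt : J < J ⊔ Ideal.span {a} :=
      left_lt_sup.mpr fun h => haJ (h (Ideal.mem_span_singleton_self a))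
    obtain ⟨w, hw, hwx⟩ := ih _ hlt x (Ideal.map_mono hlt.le hx)
    rw [Ideal.map_sup, Ideal.map_span, Set.image_singleton, Submodule.mem_sup] at hwx
    obtain ⟨j, hj, _, hz, hjz⟩ := hwx
    obtain ⟨z, rfl⟩ := Ideal.mem_span_singleton'.mp hz
    have hsz : algebraMap A B a * (s * z) ∈ (↑ᵢ J) := by
      rw [show algebraMap A B a * (s * z) = w * (s * x) - s * j by linear_combination s * hjz]
      exact Ideal.sub_mem _ (Ideal.mul_mem_left _ _ hx) (Ideal.mul_mem_left _ _ hj)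
    obtain ⟨w', hw', h'⟩ := loc_colon q h₁ h₂ hsz
    obtain ⟨w'', hw'', h''⟩ := hbase (w' * z) (by rwa [mul_left_comm] at h')
    refine ⟨w'' * w' * w, Ideal.IsPrime.mul_notMem ‹_› (Ideal.IsPrime.mul_notMem ‹_› hw'' hw') hw, ?_⟩
    rw [show w'' * w' * w * x = w'' * w' * j + algebraMap A B a * (w'' * (w' * z)) by
      linear_combination -(w'' * w') * hjz]
    refine Ideal.add_mem _ (Ideal.mul_mem_left _ _ hj) ?_
    have : Ideal.span {algebraMap A B a} * 𝔫 ≤ (↑ᵢ J) := by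
      rw [← Set.image_singleton, ← Ideal.map_span, ← Ideal.map_mul]
      exact Ideal.map_mono (Ideal.span_singleton_mul_le_iff.mpr h₁)
    exact this (Ideal.mul_mem_mul (Ideal.mem_span_singleton_self _) h'')

end Point

lemma height_le_map (p : Ideal B) [p.IsPrime] :
    haveI : (p.map (Ideal.Quotient.mk (nilradical B))).IsPrime :=
      Ideal.map_isPrime_of_surjective Ideal.Quotient.mk_surjective (by rw [Ideal.mk_ker]; exact nilradical_le_prime p)
    p.height ≤ (p.map (Ideal.Quotient.mk (nilradical B))).height := by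
  let π := Ideal.Quotient.mk (nilradical B)
  have hcm : ∀ q : PrimeSpectrum B, (q.asIdeal.map π).comap π = q.asIdeal := fun q => by
    rw [Ideal.comap_map_of_surjective π Ideal.Quotient.mk_surjective, ← RingHom.ker_eq_comap_bot, Ideal.mk_ker,
      sup_eq_left.mpr (nilradical_le_prime q.asIdeal)]
  let f : PrimeSpectrum B → PrimeSpectrum (B ⧸ nilradical B) := fun q =>
    ⟨q.asIdeal.map π, Ideal.map_isPrime_of_surjective Ideal.Quotient.mk_surjective
      (by rw [Ideal.mk_ker]; exact nilradical_le_prime q.asIdeal)⟩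
  have hf : StrictMono f := fun q r h => by
    refine lt_of_le_not_ge (Ideal.map_mono (f := π) h.le) fun hle => h.not_ge ?_
    have := Ideal.comap_mono (f := π) hle
    rwa [show (f r).asIdeal = r.asIdeal.map π from rfl, show (f q).asIdeal = q.asIdeal.map π from rfl,
      hcm, hcm] at this
  exact (PrimeSpectrum.height_eq_orderHeight ⟨p, inferInstance⟩).le.trans
    ((Order.height_le_height_apply_of_strictMono f hf ⟨p, inferInstance⟩).trans
      (PrimeSpectrum.height_eq_orderHeight (f ⟨p, inferInstance⟩)).ge)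

variable [IsNoetherianRing B]
  (hS1 : LocCoh.HasSk 1 B B) (hS2 : LocCoh.HasSk 2 (B ⧸ nilradical B) (B ⧸ nilradical B))
  (hcodim : ∀ (q : Ideal B) [q.IsPrime], q.height ≤ 1 →
    Module.Flat A (Localization.AtPrime q) ∧ IsReduced (EGA4.FibLocRing A B q))

variable (A B) in
/-- Membership in `J B` is tested at the primes of height zero. -/
def Tested (J : Ideal A) : Prop :=
  ∀ x : B, (∀ q : Ideal B, q.IsPrime → q.height = 0 → ∃ w : B, w ∉ q ∧ w * x ∈ (↑ᵢ J)) → x ∈ (↑ᵢ J)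

include hS1 in
lemma tested_bot : Tested A B ⊥ := by
  intro x hx
  rw [Ideal.map_bot, Ideal.mem_bot]
  by_contra h0
  obtain ⟨q, hq, hann⟩ := Alg6.exists_ass_ge (R := B) (M := B) h0
  haveI := (AssociatedPrimes.mem_iff.mp hq).isPrime
  obtain ⟨w, hw, hwx⟩ := hx q inferInstance (FlatLoc6.height_eq_zero_of_mem_ass hS1 hq)
  rw [Ideal.map_bot, Ideal.mem_bot] at hwx
  exact hw (hann w hwx)

include hcodim in
/-- The colon ideal of a socle element is the nilradical. -/
lemma colon_eq {J : Ideal A} (hJ : Tested A B J) {a : A} (h₁ : ∀ c ∈ 𝔪, a * c ∈ J)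
    (h₂ : ∀ c, a * c ∈ J → c ∈ 𝔪) (x : B) : algebraMap A B a * x ∈ (↑ᵢ J) ↔ x ∈ nilradical B := by
  constructor
  · intro hx
    rw [nilradical_eq_sInf, Ideal.mem_sInf]
    intro P (hP : P.IsPrime)
    obtain ⟨P₀, hP₀, hle⟩ := Ideal.exists_minimalPrimes_le (bot_le : ⊥ ≤ P)
    haveI := hP₀.1.1
    haveI := (hcodim P₀ ((Ideal.height_eq_zero_iff.mpr hP₀).le.trans zero_le_one)).1
    obtain ⟨w, hw, hwx⟩ := loc_colon P₀ h₁ h₂ hx
    exact hle ((Ideal.IsPrime.mem_or_mem ‹P₀.IsPrime› (nilradical_le_prime P₀ (map_le_nilradical hwx))).resolve_left hw)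
  · intro hx
    refine hJ _ fun q hq hq0 => ?_
    obtain ⟨w, hw, hwx⟩ := loc_nilradical q (hcodim q (hq0.le.trans zero_le_one)).2 hx
    refine ⟨w, hw, ?_⟩
    have : Ideal.span {algebraMap A B a} * 𝔫 ≤ (↑ᵢ J) := by
      rw [← Set.image_singleton, ← Ideal.map_span, ← Ideal.map_mul]
      exact Ideal.map_mono (Ideal.span_singleton_mul_le_iff.mpr h₁)
    rw [mul_left_comm]
    exact this (Ideal.mul_mem_mul (Ideal.mem_span_singleton_self _) hwx)

include hS2 hcodim in
lemma tested_step {J : Ideal A} (hJ : Tested A B J) {a : A} (h₁ : ∀ c ∈ 𝔪, a * c ∈ J)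
    (h₂ : ∀ c, a * c ∈ J → c ∈ 𝔪) : Tested A B (J ⊔ Ideal.span {a}) := by
  intro x hx
  set J' := J ⊔ Ideal.span {a}
  by_contra h0
  obtain ⟨p, hp, hann⟩ := Alg6.exists_ass_ge (R := B) (M := B ⧸ (↑ᵢ J'))
    (z := Ideal.Quotient.mk _ x) (fun h => h0 (Ideal.Quotient.eq_zero_iff_mem.mp h))
  obtain ⟨hpp, z, hz⟩ := Alg6.mem_ass_iff.mp hp
  obtain ⟨z, rfl⟩ := Ideal.Quotient.mk_surjective z
  have hz' : ∀ b : B, b ∈ p ↔ b * z ∈ (↑ᵢ J') := fun b => by
    rw [hz b, ← Ideal.Quotient.eq_zero_iff_mem, Algebra.smul_def, Ideal.Quotient.algebraMap_eq, map_mul]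
  have hp1 : 1 ≤ p.height := by
    rw [Order.one_le_iff_ne_zero]
    intro h
    obtain ⟨w, hw, hwx⟩ := hx p hpp h
    refine hw (hann w ?_)
    rw [Algebra.smul_def, Ideal.Quotient.algebraMap_eq, ← map_mul]
    exact Ideal.Quotient.eq_zero_iff_mem.mpr hwx
  obtain ⟨s, hsp, hs⟩ : ∃ s ∈ p, ∀ P ∈ minimalPrimes B, s ∉ P := by
    by_contra hc
    push Not at hc
    have hfin := minimalPrimes.finite_of_isNoetherianRing B
    have hsub : (p : Set B) ⊆ ⋃ P ∈ (hfin.toFinset : Set (Ideal B)), (P : Set B) := fun b hb => by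
      obtain ⟨P, hP, hbP⟩ := hc b hb
      exact Set.mem_biUnion (by simpa using hP) hbP
    obtain ⟨P, hP, hle⟩ := (Ideal.subset_union_prime ⊥ ⊥ (fun P hP _ _ =>
      (hfin.mem_toFinset.mp hP).1.1)).mp hsub
    have hP' : P ∈ minimalPrimes B := hfin.mem_toFinset.mp hP
    haveI := hP'.1.1
    exact (Order.one_le_iff_ne_zero.mp (hp1.trans (Ideal.height_mono hle))) (Ideal.height_eq_zero_iff.mpr hP')
  rcases le_or_gt p.height 1 with h | h
  · haveI := (hcodim p h).1
    obtain ⟨w, hw, hwz⟩ := loc_regular p (hcodim p h).2 hs J' z ((hz' s).mp hsp)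
    exact hw ((hz' w).mpr hwz)
  let R := B ⧸ nilradical B
  let π := Ideal.Quotient.mk (nilradical B)
  haveI hpR : (p.map π).IsPrime :=
    Ideal.map_isPrime_of_surjective Ideal.Quotient.mk_surjective (by rw [Ideal.mk_ker]; exact nilradical_le_prime p)
  haveI : IsReduced R := (Ideal.isRadical_iff_quotient_reduced _).mp (Ideal.radical_isRadical _)
  have hreg : IsSMulRegular R (π s) := by
    refine IsSMulRegular.of_right_eq_zero_of_smul fun r hr => ?_
    obtain ⟨r, rfl⟩ := Ideal.Quotient.mk_surjective r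
    rw [smul_eq_mul, ← map_mul, Ideal.Quotient.eq_zero_iff_mem] at hr
    rw [Ideal.Quotient.eq_zero_iff_mem, nilradical_eq_sInf, Ideal.mem_sInf]
    intro P (hP : P.IsPrime)
    obtain ⟨P₀, hP₀, hle⟩ := Ideal.exists_minimalPrimes_le (bot_le : ⊥ ≤ P)
    haveI := hP₀.1.1
    exact hle ((Ideal.IsPrime.mem_or_mem ‹P₀.IsPrime› (nilradical_le_prime P₀ hr)).resolve_left (hs P₀ hP₀))
  have hdec : ∀ u ∈ p, ∃ j ∈ (↑ᵢ J), ∃ y : B, u * z = j + algebraMap A B a * y := fun u hu => by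
    have h1 := (hz' u).mp hu
    rw [Ideal.map_sup, Ideal.map_span, Set.image_singleton, Submodule.mem_sup] at h1
    obtain ⟨j, hj, _, hy, hjy⟩ := h1
    obtain ⟨y, rfl⟩ := Ideal.mem_span_singleton'.mp hy
    exact ⟨j, hj, y, by rw [← hjy, mul_comm y]⟩
  obtain ⟨j, hj, y, hy⟩ := hdec s hsp
  let ybar : QuotSMulTop (π s) R := Submodule.Quotient.mk (π y)
  have hpy : ∀ u ∈ p, π u • ybar = 0 := fun u hu => by
    obtain ⟨i, hi, v, hv⟩ := hdec u hu
    have : algebraMap A B a * (u * y - s * v) ∈ (↑ᵢ J) := by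
      rw [show algebraMap A B a * (u * y - s * v) = s * i - u * j by linear_combination s * hv - u * hy]
      exact Ideal.sub_mem _ (Ideal.mul_mem_left _ _ hi) (Ideal.mul_mem_left _ _ hj)
    have h1 := (colon_eq hcodim hJ h₁ h₂ _).mp this
    rw [← Ideal.Quotient.eq_zero_iff_mem, map_sub, sub_eq_zero, map_mul, map_mul] at h1
    rw [← Submodule.Quotient.mk_smul]
    exact Alg6.mem_pointwise_smul_top_iff.mpr ⟨π v, h1.symm⟩
  obtain ⟨w, hw, hwy⟩ : ∃ w : B, w ∉ p ∧ π w • ybar = 0 := by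
    by_contra hc
    push Not at hc
    have hass : p.map π ∈ associatedPrimes R (QuotSMulTop (π s) R) := by
      refine Alg6.mem_ass_iff.mpr ⟨hpR, ybar, fun r => ⟨fun hr => ?_, fun hr => ?_⟩⟩
      · obtain ⟨u, hu, rfl⟩ := (Ideal.mem_map_iff_of_surjective π Ideal.Quotient.mk_surjective).mp hr
        exact hpy u hu
      · obtain ⟨u, rfl⟩ := Ideal.Quotient.mk_surjective r
        exact Ideal.mem_map_of_mem π (by_contra fun hu => hc u hu hr)
    exact absurd ((height_le_map p).trans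
      (FlatLoc6.height_le_one_of_mem_ass_quot hS2 hreg (Ideal.mem_map_of_mem π hsp) hass)) h.not_ge
  rw [← Submodule.Quotient.mk_smul] at hwy
  obtain ⟨y', hy'⟩ := Alg6.mem_pointwise_smul_top_iff.mp hwy
  obtain ⟨y', rfl⟩ := Ideal.Quotient.mk_surjective y'
  simp only [smul_eq_mul, π, ← map_mul] at hy'
  have hN := (colon_eq hcodim hJ h₁ h₂ _).mpr (Ideal.Quotient.eq.mp hy')
  have hmain : w * z - algebraMap A B a * y' ∈ (↑ᵢ J) := by
    refine hJ _ fun q hq hq0 => ?_
    haveI := (hcodim q (hq0.le.trans zero_le_one)).1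
    refine loc_regular q (hcodim q (hq0.le.trans zero_le_one)).2 hs J _ ?_
    rw [show s * (w * z - algebraMap A B a * y') = w * j - algebraMap A B a * (s * y' - w * y) by
      linear_combination w * hy]
    exact Ideal.sub_mem _ (Ideal.mul_mem_left _ _ hj) hN
  refine hw ((hz' w).mpr ?_)
  rw [show w * z = (w * z - algebraMap A B a * y') + algebraMap A B a * y' by ring]
  exact Ideal.add_mem _ (Ideal.map_mono le_sup_left hmain) (Ideal.mul_mem_right _ _
    (Ideal.mem_map_of_mem _ (Ideal.mem_sup_right (Ideal.mem_span_singleton_self a))))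

/-- A nonzero ideal is a socle extension of a smaller one. -/
lemma exists_below {J : Ideal A} (hJ : J ≠ ⊥) :
    ∃ (J₀ : Ideal A) (a : A), J₀ < J ∧ a ∈ J ∧ J = J₀ ⊔ Ideal.span {a} ∧ (∀ c ∈ 𝔪, a * c ∈ J₀) ∧
      ∀ c, a * c ∈ J₀ → c ∈ 𝔪 := by
  obtain ⟨J₀, hlt, hmax⟩ := (wellFounded_gt (α := Ideal A)).has_min {K | K < J} ⟨⊥, bot_lt_iff_ne_bot.mpr hJ⟩
  replace hlt : J₀ < J := hlt
  obtain ⟨a, ha, haJ⟩ := Set.exists_of_ssubset (SetLike.coe_ssubset_coe.mpr hlt)
  have hgen : ∀ K, J₀ < K → K ≤ J → K = J := fun K h1 h2 =>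
    h2.eq_or_lt.resolve_right fun h3 => hmax K h3 h1
  have hJ' : J = J₀ ⊔ Ideal.span {a} :=
    (hgen _ (left_lt_sup.mpr fun h => haJ (h (Ideal.mem_span_singleton_self a)))
      (sup_le hlt.le (by simpa [Ideal.span_singleton_le_iff_mem] using ha))).symm
  have hm : 𝔪 * J ≤ J₀ := by
    by_contra hc
    have hsup : J ≤ J₀ ⊔ 𝔪 • J :=
      (hgen (J₀ ⊔ 𝔪 * J) (left_lt_sup.mpr hc) (sup_le hlt.le Ideal.mul_le_right)).ge
    exact hlt.not_ge (Submodule.le_of_le_smul_of_le_jacobson_bot (IsNoetherian.noetherian J)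
      (by rw [IsLocalRing.jacobson_eq_maximalIdeal ⊥ bot_ne_top]) hsup)
  refine ⟨J₀, a, hlt, ha, hJ', fun c hc => mul_comm c a ▸ hm (Ideal.mul_mem_mul hc ha), fun c hc => ?_⟩
  by_contra hcm
  exact haJ ((Ideal.mul_unit_mem_iff_mem J₀ (notMem_maximalIdeal.mp hcm)).mp hc)

include hS1 hS2 hcodim in
lemma tested_all : ∀ J : Ideal A, Tested A B J := by
  intro J
  induction J using WellFoundedLT.induction with
  | ind J ih =>
    by_cases hJ : J = ⊥
    · subst hJ; exact tested_bot hS1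
    obtain ⟨J₀, a, hlt, -, rfl, h₁, h₂⟩ := exists_below hJ
    exact tested_step hS2 hcodim (ih J₀ hlt) h₁ h₂

include hS1 hS2 hcodim in
theorem map_eq_nilradical : 𝔫 = nilradical B := by
  refine le_antisymm map_le_nilradical fun x hx => ?_
  exact tested_all hS1 hS2 hcodim 𝔪 x fun q hq hq0 => loc_nilradical q (hcodim q (hq0.le.trans zero_le_one)).2 hx

include hS1 hS2 hcodim in
theorem isReduced_fibre : IsReduced (B ⧸ 𝔫) := by
  rw [map_eq_nilradical hS1 hS2 hcodim]
  exact (Ideal.isRadical_iff_quotient_reduced _).mp (Ideal.radical_isRadical _)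

include hS1 hS2 hcodim in
theorem flat : Module.Flat A B := by
  rw [Module.Flat.iff_rTensor_injective']
  intro J
  induction J using WellFoundedLT.induction with
  | ind J ih =>
    by_cases hJ : J = ⊥
    · subst hJ
      exact Function.injective_of_subsingleton _
    obtain ⟨J₀, a, hlt, ha, hJeq, h₁, h₂⟩ := exists_below hJ
    let ι : J₀ →ₗ[A] J := Submodule.inclusion hlt.le
    let a' : J := ⟨a, ha⟩
    have hdec : ∀ t : J ⊗[A] B, ∃ (t₀ : J₀ ⊗[A] B) (y : B), t = ι.rTensor B t₀ + a' ⊗ₜ[A] y := by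
      intro t
      induction t using TensorProduct.induction_on with
      | zero => exact ⟨0, 0, by simp⟩
      | tmul j b =>
        obtain ⟨j, hj⟩ := j
        have hj' := hj
        rw [hJeq, Submodule.mem_sup] at hj'
        obtain ⟨j₀, hj₀, _, hc, hsum⟩ := hj'
        obtain ⟨c, rfl⟩ := Ideal.mem_span_singleton'.mp hc
        refine ⟨⟨j₀, hj₀⟩ ⊗ₜ b, c • b, ?_⟩
        rw [LinearMap.rTensor_tmul, ← TensorProduct.smul_tmul, ← TensorProduct.add_tmul]
        exact congrArg (fun v : J => v ⊗ₜ[A] b) (Subtype.ext hsum.symm)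
      | add s t hs ht =>
        obtain ⟨s₀, y, rfl⟩ := hs
        obtain ⟨t₀, y', rfl⟩ := ht
        exact ⟨s₀ + t₀, y + y', by rw [map_add, TensorProduct.tmul_add]; abel⟩
    rw [← LinearMap.ker_eq_bot, eq_bot_iff]
    intro t ht
    obtain ⟨t₀, y, rfl⟩ := hdec t
    rw [LinearMap.mem_ker, map_add, ← LinearMap.comp_apply, ← LinearMap.rTensor_comp] at ht
    have himg : ∀ s : J₀ ⊗[A] B, TensorProduct.lid A B (J₀.subtype.rTensor B s) ∈ (↑ᵢ J₀) := by
      intro s
      induction s using TensorProduct.induction_on with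
      | zero => simp
      | tmul c b =>
        rw [LinearMap.rTensor_tmul, TensorProduct.lid_tmul, Algebra.smul_def]
        exact Ideal.mul_mem_right _ _ (Ideal.mem_map_of_mem _ c.2)
      | add s t hs ht => rw [map_add, map_add]; exact Ideal.add_mem _ hs ht
    have hay : algebraMap A B a * y ∈ (↑ᵢ J₀) := by
      have h := congrArg (TensorProduct.lid A B) ht
      rw [map_add, map_zero, LinearMap.rTensor_tmul, TensorProduct.lid_tmul, Algebra.smul_def] at h
      have h : TensorProduct.lid A B ((J.subtype ∘ₗ ι).rTensor B t₀) + algebraMap A B a * y = 0 := h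
      rw [show algebraMap A B a * y = -(TensorProduct.lid A B ((J.subtype ∘ₗ ι).rTensor B t₀)) by
        linear_combination h]
      exact Ideal.neg_mem_iff _ |>.mpr (himg t₀)
    have hy : y ∈ 𝔫 :=
      (map_eq_nilradical hS1 hS2 hcodim).ge ((colon_eq hcodim (tested_all hS1 hS2 hcodim J₀) h₁ h₂ y).mp hay)
    obtain ⟨t₁, ht₁⟩ : a' ⊗ₜ[A] y ∈ LinearMap.range (ι.rTensor B) := by
      have hy' : y ∈ 𝔪 • (⊤ : Submodule A B) := by rwa [Ideal.smul_top_eq_map, Submodule.restrictScalars_mem]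
      clear ht hay hy
      induction hy' using Submodule.smul_induction_on' with
      | smul c hc b _ =>
        refine ⟨⟨a * c, h₁ c hc⟩ ⊗ₜ b, ?_⟩
        rw [LinearMap.rTensor_tmul, ← TensorProduct.smul_tmul]
        congr 1
        exact Subtype.ext (mul_comm a c)
      | add s _ t _ hs ht => rw [TensorProduct.tmul_add]; exact add_mem hs ht
    rw [← ht₁, ← LinearMap.comp_apply (J.subtype.rTensor B), ← LinearMap.rTensor_comp, ← map_add] at ht
    have h00 : t₀ + t₁ = 0 := ih J₀ hlt (ht.trans (map_zero _).symm)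
    rw [Submodule.mem_bot, ← ht₁, ← map_add, h00, map_zero]

end Groth.Agent.SkFlatLib
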